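import Groth.Agent.Lib.TopDiff
import Groth.Agent.PPSheaf.Gen
import Groth.Agent.ExistEasy.PP.PullSec
import Groth.Prelude.Def_FlatMod2

/-! Local bases of modules and their inverse images. -/

set_option autoImplicit false
set_option linter.style.haveILetI false
set_option backward.isDefEq.respectTransparency false
set_option backward.isDefEq.respectTransparency.types false

universe u

open CategoryTheory CategoryTheory.Limits AlgebraicGeometry TopologicalSpace Opposite
open Groth.Agent.AModX Groth.Agent.Synt29.OmegaStalk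
open Groth.Agent.KFlatLib (stalkPullbackIso)

namespace Groth.Agent.H4Desc

variable {X Y : Scheme.{u}}

/-- sections restricting to bases on all smaller opens -/
def Bas (M : X.Modules) (U : X.Opens) {n : ℕ} (e : Fin n → Γ(M, U)) : Prop :=
  ∀ (W : X.Opens) (h : W ≤ U),
    Function.Bijective fun c : Fin n → Γ(X, W) => ∑ i, c i • res M h (e i)

theorem exists_bas {M : X.Modules} (hM : FlatMod.IsFinLocFree M) (x : X) :
    ∃ (U : X.Opens) (n : ℕ) (e : Fin n → Γ(M, U)), x ∈ U ∧ Bas M U e := by
  obtain ⟨U, n, hx, ⟨i⟩⟩ := hM x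
  obtain ⟨b, hb⟩ := TopDiff.exists_bases i
  exact ⟨U, n, b, hx, hb⟩

theorem Bas.mono {M : X.Modules} {U V : X.Opens} {n : ℕ} {e : Fin n → Γ(M, U)} (h : Bas M U e) (hV : V ≤ U) :
    Bas M V fun i => res M hV (e i) := fun W hW => by
  simp only [res_res]
  exact h W (hW.trans hV)

theorem gm_res {M : X.Modules} {U W : X.Opens} (h : W ≤ U) {x : X} (hx : x ∈ W) (s : Γ(M, U)) :
    gm M hx (res M h s) = gm M (h hx) s :=
  M.presheaf.germ_res_apply (homOfLE h) x hx s

theorem exists_common_germ {ι : Type} [Finite ι] {x : X} {U : X.Opens} (hx : x ∈ U)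
    (c : ι → X.presheaf.stalk x) :
    ∃ (W : X.Opens) (_ : W ≤ U) (hW : x ∈ W) (s : ι → Γ(X, W)), ∀ i, X.presheaf.germ W x hW (s i) = c i := by
  choose V hV t ht using fun i => X.presheaf.exists_germ_eq (c i)
  let W : X.Opens := U ⊓ ⟨⋂ i, (V i : Set X), isOpen_iInter_of_finite fun i => (V i).isOpen⟩
  have hW : x ∈ W := ⟨hx, Set.mem_iInter.2 hV⟩
  refine ⟨W, inf_le_left, hW, fun i => resR (show W ≤ V i from fun y hy => Set.mem_iInter.1 (show y ∈ ⋂ j, (V j : Set X) from hy.2) i) (t i), fun i => ?_⟩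
  exact (X.presheaf.germ_res_apply _ x hW (t i)).trans (ht i)

theorem Bas.germ_bijective {M : X.Modules} {U : X.Opens} {n : ℕ} {e : Fin n → Γ(M, U)} (h : Bas M U e)
    {x : X} (hx : x ∈ U) :
    Function.Bijective fun c : Fin n → X.presheaf.stalk x => ∑ i, c i • gm M hx (e i) := by
  have key : ∀ (W : X.Opens) (hWU : W ≤ U) (hW : x ∈ W) (s : Fin n → Γ(X, W)),
      gm M hW (∑ i, s i • res M hWU (e i)) = ∑ i, X.presheaf.germ W x hW (s i) • gm M hx (e i) := by
    intro W hWU hW s
    rw [map_sum]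
    exact Finset.sum_congr rfl fun i _ => by rw [gm_smul, gm_res]
  constructor
  · intro c c' hcc
    obtain ⟨W, hWU, hW, s, hs⟩ := exists_common_germ hx (c - c')
    have h0 : gm M hW (∑ i, s i • res M hWU (e i)) = 0 := by
      rw [key]
      simp only [hs, Pi.sub_apply, sub_smul, Finset.sum_sub_distrib]
      exact sub_eq_zero.2 hcc
    obtain ⟨W', hW', i, _, hi⟩ := M.presheaf.germ_eq x hW hW _ (0 : Γ(M, W)) (h0.trans (map_zero _).symm)
    have hz : ∑ k, resR i.le (s k) • res M (i.le.trans hWU) (e k) = 0 := by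
      calc _ = res M i.le (∑ k, s k • res M hWU (e k)) := by
            rw [map_sum]
            exact Finset.sum_congr rfl fun k _ => by rw [res_smul, res_res]
        _ = res M i.le 0 := hi.trans (by rw [map_zero, map_zero])
        _ = 0 := map_zero _
    have hzero := (h W' (i.le.trans hWU)).1 (a₁ := fun k => resR i.le (s k)) (a₂ := 0)
      (hz.trans (Finset.sum_eq_zero fun k _ => zero_smul _ _).symm)
    funext k
    rw [← sub_eq_zero, ← Pi.sub_apply, ← hs k, ← X.presheaf.germ_res_apply i x hW']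
    exact (congrArg (X.presheaf.germ W' x hW') (congrFun hzero k)).trans (map_zero _)
  · intro m
    obtain ⟨V, hV, s, rfl⟩ := gm_surjective M m
    obtain ⟨c, hc⟩ := (h (V ⊓ U) inf_le_right).2 (res M inf_le_left s)
    refine ⟨fun k => X.presheaf.germ (V ⊓ U) x ⟨hV, hx⟩ (c k), ?_⟩
    rw [← gm_res (inf_le_left : V ⊓ U ≤ V) ⟨hV, hx⟩, ← hc]
    exact (key _ _ _ c).symm

theorem bas_of_germ {M : X.Modules} {U : X.Opens} {n : ℕ} {e : Fin n → Γ(M, U)}
    (h : ∀ (x : X) (hx : x ∈ U),
      Function.Bijective fun c : Fin n → X.presheaf.stalk x => ∑ i, c i • gm M hx (e i)) :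
    Bas M U e := by
  intro W hWU
  have key : ∀ (W : X.Opens) (hWU : W ≤ U) (x : X) (hW : x ∈ W) (s : Fin n → Γ(X, W)),
      gm M hW (∑ i, s i • res M hWU (e i)) = ∑ i, X.presheaf.germ W x hW (s i) • gm M (hWU hW) (e i) := by
    intro W hWU x hW s
    rw [map_sum]
    exact Finset.sum_congr rfl fun i _ => by rw [gm_smul, gm_res]
  have inj : ∀ (W : X.Opens) (hWU : W ≤ U),
      Function.Injective fun c : Fin n → Γ(X, W) => ∑ i, c i • res M hWU (e i) := by
    intro W hWU c c' hcc
    funext k
    refine TopCat.Presheaf.section_ext X.sheaf W _ _ fun x hx => ?_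
    exact congrFun ((h x (hWU hx)).1 ((key W hWU x hx c).symm.trans
      ((congrArg (gm M hx) hcc).trans (key W hWU x hx c')))) k
  refine ⟨inj W hWU, fun a => ?_⟩
  have loc : ∀ x : W, ∃ (V : X.Opens) (hVW : V ≤ W) (_ : (x : X) ∈ V) (c : Fin n → Γ(X, V)),
      ∑ i, c i • res M (hVW.trans hWU) (e i) = res M hVW a := by
    intro ⟨x, hx⟩
    obtain ⟨γ, hγ⟩ := (h x (hWU hx)).2 (gm M hx a)
    obtain ⟨V, hVW, hV, s, hs⟩ := exists_common_germ hx γ
    have h0 : gm M hV (∑ i, s i • res M (hVW.trans hWU) (e i)) = gm M hV (res M hVW a) := by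
      rw [key, gm_res]
      simp only [hs]
      exact hγ
    obtain ⟨V', hV', i, j, hi⟩ := M.presheaf.germ_eq x hV hV _ _ h0
    refine ⟨V', i.le.trans hVW, hV', fun k => resR i.le (s k), ?_⟩
    calc _ = res M i.le (∑ k, s k • res M (hVW.trans hWU) (e k)) := by
          rw [map_sum]
          exact Finset.sum_congr rfl fun k _ => by rw [res_smul, res_res]
      _ = res M i.le (res M hVW a) := hi
      _ = _ := res_res _ _ _
  choose V hVW hxV c hc using loc
  have hag : ∀ (x y : W) k, resR (inf_le_left : V x ⊓ V y ≤ V x) (c x k) =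
      resR (inf_le_right : V x ⊓ V y ≤ V y) (c y k) := by
    intro x y k
    refine congrFun (inj (V x ⊓ V y) ((inf_le_left.trans (hVW x)).trans hWU)
      (a₁ := fun k => resR inf_le_left (c x k)) (a₂ := fun k => resR inf_le_right (c y k)) ?_) k
    calc _ = res M inf_le_left (∑ i, c x i • res M ((hVW x).trans hWU) (e i)) := by
          rw [map_sum]
          exact Finset.sum_congr rfl fun k _ => by rw [res_smul, res_res]
      _ = res M inf_le_right (∑ i, c y i • res M ((hVW y).trans hWU) (e i)) := by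
          rw [hc, hc, res_res, res_res]
      _ = _ := by
          rw [map_sum]
          exact Finset.sum_congr rfl fun k _ => by rw [res_smul, res_res]
  have hglue : ∀ k, ∃ t : Γ(X, W), ∀ x : W, resR (hVW x) t = c x k := fun k =>
    (TopCat.Sheaf.existsUnique_gluing' X.sheaf V W (fun x => homOfLE (hVW x))
      (fun p hp => Opens.mem_iSup.mpr ⟨⟨p, hp⟩, hxV _⟩) (fun x => c x k) fun x y => hag x y k).exists
  choose t ht using hglue
  refine ⟨t, eq_of_locally _ _ fun p hp => ⟨V ⟨p, hp⟩, hVW _, hxV _, ?_⟩⟩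
  rw [← hc ⟨p, hp⟩, map_sum]
  exact Finset.sum_congr rfl fun k _ => by rw [res_smul, res_res, ht]

/-- The inverse image of a basis is a basis. -/
theorem Bas.pullback (h : X ⟶ Y) {M : Y.Modules} {U : Y.Opens} {n : ℕ} {e : Fin n → Γ(M, U)}
    (hb : Bas M U e) :
    Bas ((Scheme.Modules.pullback h).obj M) (h ⁻¹ᵁ U) fun i => QCoh.pullSec h M le_rfl (e i) := by
  refine bas_of_germ fun x hx => ?_
  let P := (Scheme.Modules.pullback h).obj M
  have hgm : ∀ {W : Y.Opens} (hW : x ∈ h ⁻¹ᵁ W) (s : Γ(M, W)),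
      gm P hW (QCoh.pullSec h M le_rfl s) = gm P hW (OmegaSh.pullSect h M W s) := fun hW s => by
    unfold QCoh.pullSec
    exact gm_res (le_refl _) hW _
  constructor
  · intro c c' hcc
    let b := hb.germ_bijective (x := h x) hx
    let coord : St M (h x) →ₗ[Y.presheaf.stalk (h x)] (Fin n → Y.presheaf.stalk (h x)) :=
      ((LinearEquiv.ofBijective
        (Fintype.linearCombination (Y.presheaf.stalk (h x)) fun i => gm M hx (e i)) (by
          convert b using 1
          funext c
          exact Fintype.linearCombination_apply _ _ c)).symm).toLinearMap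
    have hcoord : ∀ i, coord (gm M hx (e i)) = Pi.single i 1 := fun i => by
      refine (LinearEquiv.symm_apply_eq _).2 ?_
      exact ((Fintype.linearCombination_apply_single (Y.presheaf.stalk (h x))
        (fun i => gm M hx (e i)) i 1).trans (one_smul (Y.presheaf.stalk (h x)) _)).symm
    funext k
    let adj := ModuleCat.extendRestrictScalarsAdj (h.stalkMap x).hom
    let T : ModuleCat.{u} (X.presheaf.stalk x) := ModuleCat.of _ (X.presheaf.stalk x)
    let l : St M (h x) ⟶ (ModuleCat.restrictScalars (h.stalkMap x).hom).obj T :=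
      ModuleCat.ofHom
        (Y := (ModuleCat.restrictScalars (h.stalkMap x).hom).obj T)
        { toFun := fun m => (h.stalkMap x).hom (coord m k)
          map_add' := fun a b => by simp only [map_add, Pi.add_apply]
          map_smul' := fun r a => by
            simp only [map_smul, Pi.smul_apply, smul_eq_mul, map_mul, RingHom.id_apply]
            rfl }
    let γ := (adj.homEquiv _ _).symm l
    let E := (stalkPullbackIso h x).app M
    have hγ : ∀ i, γ (E.hom (gm P hx (QCoh.pullSec h M le_rfl (e i)))) =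
        (if k = i then 1 else 0 : X.presheaf.stalk x) := by
      intro i
      rw [hgm]
      refine (congrArg γ (stalkPullbackIso_gm h M x hx (e i))).trans ?_
      refine (congr($((adj.homEquiv_unit _ _ γ).symm.trans ((adj.homEquiv _ _).apply_symm_apply l)) (gm M hx (e i)))).trans ?_
      show (h.stalkMap x).hom (coord (gm M hx (e i)) k) = _
      rw [hcoord, Pi.single_apply]
      split_ifs <;> simp
    have key : ∀ d : Fin n → X.presheaf.stalk x,
        γ (E.hom (∑ i, d i • gm P hx (QCoh.pullSec h M le_rfl (e i)))) = d k := fun d => by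
      rw [map_sum, map_sum]
      refine (Finset.sum_congr rfl fun i _ => ?_).trans
        ((Fintype.sum_ite_eq k d))
      rw [map_smul, map_smul, hγ]
      split_ifs
      · exact mul_one _
      · exact mul_zero _
    exact (key c).symm.trans ((congrArg (fun z => γ (E.hom z)) hcc).trans (key c'))
  · intro m
    have hm : m ∈ Submodule.span (X.presheaf.stalk x)
        (Set.range fun i => gm P hx (QCoh.pullSec h M le_rfl (e i))) := by
      refine Submodule.span_le.2 ?_ ((PPSheaf.span_pullSect_eq_top h M x).ge (trivial : m ∈ ⊤))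
      rintro _ ⟨W, hW, s, rfl⟩
      obtain ⟨c, hc⟩ := (hb (W ⊓ U) inf_le_right).2 (res M inf_le_left s)
      have e1 : gm P hW (OmegaSh.pullSect h M W s) =
          gm P (show x ∈ h ⁻¹ᵁ (W ⊓ U) from ⟨hW, hx⟩) (QCoh.pullSec h M le_rfl (res M inf_le_left s)) := by
        rw [← hgm, ← gm_res (show h ⁻¹ᵁ (W ⊓ U) ≤ h ⁻¹ᵁ W from fun y hy => hy.1)]
        exact congrArg _ (ExistEasy.pullSec_res h M inf_le_left _ le_rfl le_rfl s)
      rw [SetLike.mem_coe, e1, ← hc]
      have e2 : gm P (show x ∈ h ⁻¹ᵁ (W ⊓ U) from ⟨hW, hx⟩)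
          (QCoh.pullSec h M le_rfl (∑ i, c i • res M inf_le_right (e i))) =
          ∑ i, X.presheaf.germ _ x (show x ∈ h ⁻¹ᵁ (W ⊓ U) from ⟨hW, hx⟩) (h.appLE _ _ le_rfl (c i)) •
            gm P hx (QCoh.pullSec h M le_rfl (e i)) := by
        rw [show QCoh.pullSec h M le_rfl (∑ i, c i • res M (inf_le_right : W ⊓ U ≤ U) (e i)) = _ from
          map_sum (AddMonoidHom.mk' (QCoh.pullSec h M (le_refl (h ⁻¹ᵁ (W ⊓ U)))) (QCoh.pullSec_add h M _)) _ _,
          map_sum]
        refine Finset.sum_congr rfl fun i _ => ?_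
        show gm P _ (QCoh.pullSec h M le_rfl (c i • res M inf_le_right (e i))) = _
        rw [QCoh.pullSec_smul, gm_smul]
        congr 1
        rw [← gm_res (show h ⁻¹ᵁ (W ⊓ U) ≤ h ⁻¹ᵁ U from fun y hy => hy.2)
          (show x ∈ h ⁻¹ᵁ (W ⊓ U) from ⟨hW, hx⟩)]
        exact congrArg _ (ExistEasy.pullSec_res h M inf_le_right _ le_rfl le_rfl (e i)).symm
      rw [e2]
      exact Submodule.sum_mem _ fun i _ => Submodule.smul_mem _ _ (Submodule.subset_span ⟨i, rfl⟩)
    obtain ⟨c, hc⟩ := (Submodule.mem_span_range_iff_exists_fun _).1 hm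
    exact ⟨c, hc⟩

end Groth.Agent.H4Desc
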