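import Groth.Agent.H4Desc.Basis

/-! Descent of morphisms into a finite locally free module along `f` with `O_Y` the equalizer. -/

set_option autoImplicit false
set_option linter.style.haveILetI false
set_option backward.isDefEq.respectTransparency false
set_option backward.isDefEq.respectTransparency.types false

universe u

open CategoryTheory CategoryTheory.Limits AlgebraicGeometry TopologicalSpace Opposite
open Groth.Agent.AModX

namespace Groth.Agent.H4Desc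

variable {X Y : Scheme.{u}} (f : X ⟶ Y)

theorem pullSec_sum {Z : Scheme.{u}} (h : Z ⟶ Y) (M : Y.Modules) {W : Z.Opens} {V : Y.Opens}
    (hle : W ≤ h ⁻¹ᵁ V) {n : ℕ} (r : Fin n → Γ(Y, V)) (s : Fin n → Γ(M, V)) :
    QCoh.pullSec h M hle (∑ i, r i • s i) = ∑ i, h.appLE V W hle (r i) • QCoh.pullSec h M hle (s i) := by
  rw [show QCoh.pullSec h M hle (∑ i, r i • s i) = _ from
    map_sum (AddMonoidHom.mk' (QCoh.pullSec h M hle) (QCoh.pullSec_add h M hle)) _ _]
  exact Finset.sum_congr rfl fun i _ => QCoh.pullSec_smul h M hle _ _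

/-- the first transport to the double cover -/
noncomputable def pl (M : Y.Modules) {V : Y.Opens} (a : Γ((Scheme.Modules.pullback f).obj M, f ⁻¹ᵁ V))
    {P : Scheme.{u}} (p : P ⟶ X) (g : P ⟶ Y) (e : p ≫ f = g) {W : P.Opens} (hW : W ≤ p ⁻¹ᵁ (f ⁻¹ᵁ V)) :
    Γ((Scheme.Modules.pullback g).obj M, W) :=
  ((Scheme.Modules.pullbackCongr e).hom.app M).app W
    (((Scheme.Modules.pullbackComp p f).hom.app M).app W
      (QCoh.pullSec p ((Scheme.Modules.pullback f).obj M) hW a))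

theorem pl_pullSec (M : Y.Modules) {V : Y.Opens} (s : Γ(M, V))
    {P : Scheme.{u}} (p : P ⟶ X) (g : P ⟶ Y) (e : p ≫ f = g) {W : P.Opens} (hW : W ≤ p ⁻¹ᵁ (f ⁻¹ᵁ V)) :
    pl f M (QCoh.pullSec f M le_rfl s) p g e hW = QCoh.pullSec g M (e ▸ hW) s := by
  unfold pl
  rw [ExistEasy.pullSec_comp, ExistEasy.pullSec_congr e]

theorem pl_comb (M : Y.Modules) {V : Y.Opens} {n : ℕ} (c : Fin n → Γ(X, f ⁻¹ᵁ V)) (s : Fin n → Γ(M, V))
    {P : Scheme.{u}} (p : P ⟶ X) (g : P ⟶ Y) (e : p ≫ f = g) {W : P.Opens} (hW : W ≤ p ⁻¹ᵁ (f ⁻¹ᵁ V)) :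
    pl f M (∑ i, c i • QCoh.pullSec f M le_rfl (s i)) p g e hW =
      ∑ i, p.appLE (f ⁻¹ᵁ V) W hW (c i) • QCoh.pullSec g M (e ▸ hW) (s i) := by
  unfold pl
  rw [pullSec_sum, map_sum, map_sum]
  refine Finset.sum_congr rfl fun i _ => ?_
  rw [Scheme.Modules.Hom.app_smul, Scheme.Modules.Hom.app_smul]
  congr 1
  exact pl_pullSec f M (s i) p g e hW

theorem pl_res (M : Y.Modules) {V V' : Y.Opens} (hV : V' ≤ V)
    (a : Γ((Scheme.Modules.pullback f).obj M, f ⁻¹ᵁ V))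
    {P : Scheme.{u}} (p : P ⟶ X) (g : P ⟶ Y) (e : p ≫ f = g) {W W' : P.Opens} (hWW : W' ≤ W)
    (hW : W ≤ p ⁻¹ᵁ (f ⁻¹ᵁ V)) (hW' : W' ≤ p ⁻¹ᵁ (f ⁻¹ᵁ V')) :
    res _ hWW (pl f M a p g e hW) =
      pl f M (res _ (f.preimage_mono hV) a) p g e hW' := by
  unfold pl
  rw [← app_res, ← app_res]
  congr 2
  exact ExistEasy.pullSec_res p _ (f.preimage_mono hV) hWW hW hW' a

variable (hU : ∀ U : Y.Opens, (pullback.fst f f) ⁻¹ᵁ (f ⁻¹ᵁ U) = (pullback.snd f f) ⁻¹ᵁ (f ⁻¹ᵁ U))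
  (hinj : ∀ U : Y.Opens, Function.Injective (f.app U))
  (hex : ∀ (U : Y.Opens) (a : Γ(X, f ⁻¹ᵁ U)),
      (pullback.fst f f).app (f ⁻¹ᵁ U) a =
        ((pullback f f).presheaf.map (eqToHom (hU U)).op) ((pullback.snd f f).app (f ⁻¹ᵁ U) a) →
      a ∈ Set.range (f.app U))

/-- the two transports agree -/
def Compat (M : Y.Modules) {V : Y.Opens} (a : Γ((Scheme.Modules.pullback f).obj M, f ⁻¹ᵁ V)) : Prop :=
  pl f M a (pullback.fst f f) (pullback.fst f f ≫ f) rfl (W := pullback.fst f f ⁻¹ᵁ (f ⁻¹ᵁ V)) le_rfl =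
    pl f M a (pullback.snd f f) (pullback.fst f f ≫ f) pullback.condition.symm (hU V).le

theorem psec_res {Z : Scheme.{u}} (h : Z ⟶ Y) (M : Y.Modules) {V V' : Y.Opens} (hV : V' ≤ V) (t : Γ(M, V)) :
    res _ (h.preimage_mono hV) (QCoh.pullSec h M (le_refl (h ⁻¹ᵁ V)) t) =
      QCoh.pullSec h M (le_refl (h ⁻¹ᵁ V')) (res M hV t) :=
  ExistEasy.pullSec_res h M hV (h.preimage_mono hV) le_rfl le_rfl t

theorem exists_bas_le {M : Y.Modules} (hM : FlatMod.IsFinLocFree M) {U : Y.Opens} {p : Y} (hp : p ∈ U) :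
    ∃ (V : Y.Opens) (n : ℕ) (e : Fin n → Γ(M, V)), V ≤ U ∧ p ∈ V ∧ Bas M V e := by
  obtain ⟨V, n, e, hpV, hb⟩ := exists_bas hM p
  exact ⟨V ⊓ U, n, _, inf_le_right, ⟨hpV, hp⟩, hb.mono inf_le_left⟩

theorem Bas.pullback_top (h : X ⟶ Y) {M : Y.Modules} {U : Y.Opens} {n : ℕ} {e : Fin n → Γ(M, U)}
    (hb : Bas M U e) :
    Function.Bijective fun c : Fin n → Γ(X, h ⁻¹ᵁ U) => ∑ i, c i • QCoh.pullSec h M le_rfl (e i) := by
  have h1 := hb.pullback h (h ⁻¹ᵁ U) le_rfl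
  simpa only [res_self] using h1

theorem eq_of_pullSec_eq (M : Y.Modules) (hM : FlatMod.IsFinLocFree M) (hinj : ∀ U : Y.Opens, Function.Injective (f.app U))
    {U : Y.Opens} {s t : Γ(M, U)} (h : QCoh.pullSec f M le_rfl s = QCoh.pullSec f M (le_refl (f ⁻¹ᵁ U)) t) :
    s = t := by
  refine eq_of_locally _ _ fun p hp => ?_
  obtain ⟨V, n, e, hVU, hpV, hb⟩ := exists_bas_le hM hp
  refine ⟨V, hVU, hpV, ?_⟩
  obtain ⟨c, hc⟩ := (hb V le_rfl).2 (res M hVU s)
  obtain ⟨d, hd⟩ := (hb V le_rfl).2 (res M hVU t)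
  simp only [res_self] at hc hd
  have key : (fun i => f.appLE V (f ⁻¹ᵁ V) le_rfl (c i)) = fun i => f.appLE V (f ⁻¹ᵁ V) le_rfl (d i) := by
    refine (hb.pullback_top f).1 ?_
    show ∑ i, _ • _ = ∑ i, _ • _
    rw [← pullSec_sum, ← pullSec_sum, hc, hd, ← psec_res, ← psec_res, h]
  rw [← hc, ← hd]
  refine congrArg (fun c : Fin n → Γ(Y, V) => ∑ i, c i • e i) (funext fun i => hinj _ ?_)
  have := congrFun key i
  rwa [← Scheme.Hom.app_eq_appLE] at this

include hinj hex in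
theorem exists_descend (M : Y.Modules) (hM : FlatMod.IsFinLocFree M) {U : Y.Opens}
    (a : Γ((Scheme.Modules.pullback f).obj M, f ⁻¹ᵁ U)) (ha : Compat f hU M a) :
    ∃ m : Γ(M, U), QCoh.pullSec f M le_rfl m = a := by
  let g := pullback.fst f f ≫ f
  have hcompat : ∀ {V : Y.Opens} (hV : V ≤ U), Compat f hU M (res _ (f.preimage_mono hV) a) := by
    intro V hV
    have h1 : pullback.fst f f ⁻¹ᵁ (f ⁻¹ᵁ V) ≤ pullback.fst f f ⁻¹ᵁ (f ⁻¹ᵁ U) :=
      Scheme.Hom.preimage_mono _ (f.preimage_mono hV)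
    unfold Compat
    rw [← pl_res f M hV a _ g rfl h1 le_rfl, ← pl_res f M hV a _ g pullback.condition.symm h1 (hU U).le]
    exact congrArg _ ha
  have loc : ∀ p : U, ∃ (V : Y.Opens) (hV : V ≤ U) (_ : (p : Y) ∈ V) (m : Γ(M, V)),
      QCoh.pullSec f M le_rfl m = res _ (f.preimage_mono hV) a := by
    intro ⟨p, hp⟩
    obtain ⟨V, n, e, hVU, hpV, hb⟩ := exists_bas_le hM hp
    obtain ⟨c, hc⟩ := (hb.pullback_top f).2 (res _ (f.preimage_mono hVU) a)
    have hcomb : ∀ i, (pullback.fst f f).appLE (f ⁻¹ᵁ V) (pullback.fst f f ⁻¹ᵁ (f ⁻¹ᵁ V)) le_rfl (c i) =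
        (pullback.snd f f).appLE (f ⁻¹ᵁ V) _ (hU V).le (c i) := by
      refine fun i => congrFun ((hb.pullback_top g).1
        (a₁ := fun i => (pullback.fst f f).appLE (f ⁻¹ᵁ V) (pullback.fst f f ⁻¹ᵁ (f ⁻¹ᵁ V)) le_rfl (c i))
        (a₂ := fun i => (pullback.snd f f).appLE (f ⁻¹ᵁ V) (pullback.fst f f ⁻¹ᵁ (f ⁻¹ᵁ V)) (hU V).le (c i)) ?_) i
      refine (pl_comb f M c e (pullback.fst f f) g rfl le_rfl).symm.trans ?_
      refine Eq.trans ?_ (pl_comb f M c e (pullback.snd f f) g pullback.condition.symm (hU V).le)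
      rw [show ∑ i, c i • QCoh.pullSec f M le_rfl (e i) = _ from hc]
      exact hcompat hVU
    choose r hr using fun i => hex V (c i) (by
      rw [Scheme.Hom.app_eq_appLE, hcomb i]
      rfl)
    refine ⟨V, hVU, hpV, ∑ i, r i • e i, ?_⟩
    rw [pullSec_sum]
    refine Eq.trans (Finset.sum_congr rfl fun i _ => ?_) hc
    rw [← Scheme.Hom.app_eq_appLE, hr]
  choose V hV hpV m hm using loc
  obtain ⟨t, ht⟩ := (existsUnique_glue (M := M) V hV (fun p hp => ⟨⟨p, hp⟩, hpV _⟩) m fun p q => by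
    refine eq_of_pullSec_eq f M hM hinj ?_
    rw [← psec_res, ← psec_res, hm, hm]
    exact (res_res _ _ a).trans (res_res _ _ a).symm).exists
  refine ⟨t, eq_of_locally _ _ fun x hx => ⟨f ⁻¹ᵁ V ⟨f x, hx⟩, f.preimage_mono (hV _), hpV _, ?_⟩⟩
  refine Eq.trans ?_ (hm ⟨f x, hx⟩)
  refine (ExistEasy.pullSec_res f M (hV _) (f.preimage_mono (hV _)) le_rfl le_rfl t).trans ?_
  exact congrArg _ (ht _)

include hinj hex in
theorem existsUnique_hom (L M : Y.Modules) (hM : FlatMod.IsFinLocFree M)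
    (φ : (Scheme.Modules.pullback f).obj L ⟶ (Scheme.Modules.pullback f).obj M)
    (hφ : ∀ (U : Y.Opens) (s : Γ(L, U)), Compat f hU M (φ.app _ (QCoh.pullSec f L le_rfl s))) :
    ∃! ψ : L ⟶ M, (Scheme.Modules.pullback f).map ψ = φ := by
  choose m hm using fun (U : Y.Opens) (s : Γ(L, U)) => exists_descend f hU hinj hex M hM _ (hφ U s)
  have huniq := fun {U : Y.Opens} {s t : Γ(M, U)} => eq_of_pullSec_eq f M hM hinj (U := U) (s := s) (t := t)
  let ψ : L ⟶ M :=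
    { val := PresheafOfModules.homMk
        { app := fun U => AddCommGrpCat.ofHom (AddMonoidHom.mk' (fun s : Γ(L, unop U) => m (unop U) s)
            fun s t => huniq (by rw [hm, QCoh.pullSec_add, map_add, QCoh.pullSec_add, hm, hm]))
          naturality := fun U V i => by
            ext s
            refine huniq ?_
            show QCoh.pullSec f M le_rfl (m (unop V) (res L i.unop.le s)) =
              QCoh.pullSec f M le_rfl (res M i.unop.le (m (unop U) s))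
            refine Eq.trans ?_ (psec_res f M i.unop.le _)
            rw [hm, hm]
            refine Eq.trans ?_ (app_res φ (f.preimage_mono i.unop.le) _)
            exact congrArg _ (psec_res f L i.unop.le _).symm }
        fun U r s => (show ∀ (r : Γ(Y, unop U)) (s : Γ(L, unop U)), m (unop U) (r • s) = r • m (unop U) s from
          fun r s => huniq (by
            rw [hm, QCoh.pullSec_smul, Scheme.Modules.Hom.app_smul, QCoh.pullSec_smul, hm])) r s }
  refine ⟨ψ, ?_, fun ψ' hψ' => ?_⟩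
  · apply ((Scheme.Modules.pullbackPushforwardAdjunction f).homEquiv _ _).injective
    refine Scheme.Modules.hom_ext _ _ fun U => ?_
    ext s
    rw [Adjunction.homEquiv_unit, Adjunction.homEquiv_unit]
    have h1 := ExistEasy.pullSec_natural f ψ (le_refl (f ⁻¹ᵁ U)) s
    have h2 : ∀ (N : Y.Modules) (t : Γ(N, U)), QCoh.pullSec f N le_rfl t =
        ((Scheme.Modules.pullbackPushforwardAdjunction f).unit.app N).app U t := fun N t =>
      res_self (M := (Scheme.Modules.pullback f).obj N) _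
    show ((Scheme.Modules.pullback f).map ψ).app (f ⁻¹ᵁ U) (((Scheme.Modules.pullbackPushforwardAdjunction f).unit.app L).app U s) =
      φ.app (f ⁻¹ᵁ U) (((Scheme.Modules.pullbackPushforwardAdjunction f).unit.app L).app U s)
    rw [← h2]
    exact h1.trans (hm U s)
  · refine Scheme.Modules.hom_ext _ _ fun U => ?_
    ext s
    refine huniq ?_
    show QCoh.pullSec f M le_rfl (ψ'.app U s) = QCoh.pullSec f M le_rfl (m U s)
    rw [hm, ← ExistEasy.pullSec_natural f ψ', hψ']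

theorem pl_app_fst {P : Scheme.{u}} (p : P ⟶ X) {L M : Y.Modules}
    (φ : (Scheme.Modules.pullback f).obj L ⟶ (Scheme.Modules.pullback f).obj M) {U : Y.Opens} (t : Γ(L, U))
    {W : P.Opens} (hW : W ≤ p ⁻¹ᵁ (f ⁻¹ᵁ U)) :
    pl f M (φ.app _ (QCoh.pullSec f L le_rfl t)) p (p ≫ f) rfl hW =
      (((Scheme.Modules.pullbackComp p f).app L).inv ≫ (Scheme.Modules.pullback p).map φ ≫
        ((Scheme.Modules.pullbackComp p f).app M).hom).app W (QCoh.pullSec (p ≫ f) L hW t) := by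
  have h1 : ((Scheme.Modules.pullbackComp p f).inv.app L).app W (QCoh.pullSec (p ≫ f) L hW t) =
      QCoh.pullSec p _ hW (QCoh.pullSec f L le_rfl t) := by
    refine (congrArg _ (ExistEasy.pullSec_comp p f L (le_refl (f ⁻¹ᵁ U)) hW t).symm).trans ?_
    exact congrArg (fun k => Scheme.Modules.Hom.app k W (QCoh.pullSec p _ hW (QCoh.pullSec f L le_rfl t)))
      ((Scheme.Modules.pullbackComp p f).hom_inv_id_app L)
  rw [Scheme.Modules.Hom.comp_app, Scheme.Modules.Hom.comp_app, ConcreteCategory.comp_apply,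
    ConcreteCategory.comp_apply, Iso.app_inv, Iso.app_hom, h1]
  refine Eq.trans ?_ (congrArg _ (ExistEasy.pullSec_natural p φ hW (QCoh.pullSec f L le_rfl t)).symm)
  rfl

theorem pl_app_snd {P : Scheme.{u}} (p : P ⟶ X) (g : P ⟶ Y) (e : g = p ≫ f) {L M : Y.Modules}
    (φ : (Scheme.Modules.pullback f).obj L ⟶ (Scheme.Modules.pullback f).obj M) {U : Y.Opens} (t : Γ(L, U))
    {W : P.Opens} (hW : W ≤ p ⁻¹ᵁ (f ⁻¹ᵁ U)) (hWg : W ≤ g ⁻¹ᵁ U) :
    pl f M (φ.app _ (QCoh.pullSec f L le_rfl t)) p g e.symm hW =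
      (((Scheme.Modules.pullbackCongr e).app L).hom ≫
        ((Scheme.Modules.pullbackComp p f).app L).inv ≫ (Scheme.Modules.pullback p).map φ ≫
        ((Scheme.Modules.pullbackComp p f).app M).hom ≫ ((Scheme.Modules.pullbackCongr e).app M).inv).app W
          (QCoh.pullSec g L hWg t) := by
  subst e
  refine (pl_app_fst f p φ t hW).trans ?_
  simp [Scheme.Modules.pullbackCongr]

end Groth.Agent.H4Desc
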